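import Groth.Agent.Lib.ExtPowX.SesSheaf
import Groth.Agent.Lib.Euler.LocFree
import Groth.Agent.Lib.Euler.GenericCompare
import Groth.Agent.Lib.Euler.Coh
import Groth.Agent.Lib.OmegaFree.Basic
import Groth.Agent.Lib.OX.ExtZeroOpen
import Groth.Agent.Lib.QCoh.GenericPoint
import Groth.Agent.Lib.Semiample.Criterion
import Groth.Prelude.Def_CohB1
import Mathlib.AlgebraicGeometry.FunctionField
import Mathlib.LinearAlgebra.Matrix.Determinant.Basic
import Mathlib.LinearAlgebra.ExteriorPower.Basis

/-!
# Sections of a generically generated bundle against sections of its determinant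
-/

set_option autoImplicit false
set_option backward.isDefEq.respectTransparency false
set_option linter.style.haveILetI false
set_option linter.unusedSectionVars false

universe u

open CategoryTheory CategoryTheory.Limits AlgebraicGeometry TopologicalSpace Opposite
open GrothLib.InvExt (mres)
open GrothLib.FinCov (IsFrame)
open GrothLib.QCoh (stalkLin)
open scoped TensorProduct

noncomputable section

namespace GrothLib.MulSec15

section Algebra

variable {A : Type*} [CommRing A] {M N : Type*} [AddCommGroup M] [Module A M] [AddCommGroup N] [Module A N]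
  {r : ℕ}

/-- An alternating map in as many variables as a basis is the determinant times its value on the basis. -/
theorem alt_eq_det_smul (b : Module.Basis (Fin r) A M) (f : M [⋀^Fin r]→ₗ[A] N) (v : Fin r → M) :
    f v = b.det v • f b := by
  have h : f = (LinearMap.toSpanSingleton A N (f b)).compAlternatingMap b.det :=
    Module.Basis.ext_alternating b fun i hi => by
      let σ : Equiv.Perm (Fin r) := Equiv.ofBijective i (Finite.injective_iff_bijective.1 hi)
      show f (b ∘ σ) = b.det (b ∘ σ) • f b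
      rw [f.map_perm, b.det.map_perm, Module.Basis.det_self, smul_assoc, one_smul]
  exact congrArg (fun g : M [⋀^Fin r]→ₗ[A] N => g v) h

/-- The Laplace identity: a vector tensored with the wedge of the others sums to zero. -/
theorem laplace_tmul (b : Module.Basis (Fin r) A M) (v : Fin (r + 1) → M) :
    ∑ i : Fin (r + 1), ((-1 : A) ^ (i : ℕ)) •
      (v i ⊗ₜ[A] exteriorPower.ιMulti A r (v ∘ i.succAbove)) = 0 := by
  have h0 : ∑ i : Fin (r + 1), ((-1 : A) ^ (i : ℕ) * b.det (v ∘ i.succAbove)) • v i = 0 := by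
    apply b.repr.injective
    rw [map_sum, map_zero]
    ext a
    simp only [map_smul, Finsupp.coe_finset_sum, Finset.sum_apply, Finsupp.smul_apply, smul_eq_mul, Finsupp.zero_apply]
    let Q : Matrix (Fin (r + 1)) (Fin (r + 1)) A :=
      Matrix.of (Fin.cons (fun i => b.repr (v i) a) fun c i => b.repr (v i) c)
    have hQ : Q.det = 0 := Matrix.det_zero_of_row_eq (Fin.succ_ne_zero a).symm
      (funext fun i => by simp [Q, Matrix.row])
    rw [← hQ, Matrix.det_succ_row_zero]
    refine Finset.sum_congr rfl fun i _ => ?_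
    rw [Module.Basis.det_apply, show Q.submatrix Fin.succ i.succAbove = b.toMatrix (v ∘ i.succAbove) by
      ext c j; simp [Q, Matrix.submatrix, Module.Basis.toMatrix_apply]]
    simp only [Q, Matrix.of_apply, Fin.cons_zero]
    ring
  calc ∑ i : Fin (r + 1), ((-1 : A) ^ (i : ℕ)) • (v i ⊗ₜ[A] exteriorPower.ιMulti A r (v ∘ i.succAbove))
      = ∑ i : Fin (r + 1), (((-1 : A) ^ (i : ℕ) * b.det (v ∘ i.succAbove)) • v i) ⊗ₜ[A]
          exteriorPower.ιMulti A r b := Finset.sum_congr rfl fun i _ => by
        rw [alt_eq_det_smul b (exteriorPower.ιMulti A r) (v ∘ i.succAbove), TensorProduct.tmul_smul,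
          ← TensorProduct.smul_tmul', smul_smul]
    _ = _ := by rw [← TensorProduct.sum_tmul, h0, TensorProduct.zero_tmul]

theorem ιMulti_basis_ne_zero [Nontrivial A] (b : Module.Basis (Fin r) A M) :
    exteriorPower.ιMulti A r b ≠ 0 := fun h => by
  have h' := congrArg (exteriorPower.alternatingMapLinearEquiv b.det) h
  rw [exteriorPower.alternatingMapLinearEquiv_apply_ιMulti, map_zero, Module.Basis.det_self] at h'
  exact one_ne_zero h'

end Algebra

variable {X : Scheme.{u}}

/-- A generically generated bundle has a frame of global sections somewhere. -/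
theorem exists_global_frame [IsIntegral X] [IsLocallyNoetherian X] {E : X.Modules} {r : ℕ}
    (hE : FlatMod.IsFinLocFreeOfRank r E) {U : X.Opens} {J : Type u} (s : J → (Coh.structureModule X ⟶ E))
    (hU : (U : Set X).Nonempty) [he : Epi ((Scheme.Modules.restrictFunctor U.ι).map (Sigma.desc s))] :
    ∃ (V : X.Opens) (t : Fin r → Γ(E, ⊤)), (V : Set X).Nonempty ∧ IsFrame E V fun i => mres E le_top (t i) := by
  classical
  have hxU : genericPoint X ∈ U :=
    ((genericPoint_spec X).mem_open_set_iff U.isOpen).mpr (by simpa using hU)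
  set x := genericPoint X with hx
  letI : Field (X.presheaf.stalk x) := inferInstanceAs (Field X.functionField)
  obtain ⟨b₀⟩ := OmegaFree.exists_basis_stalk hE x
  haveI : Module.Finite (X.presheaf.stalk x) (E.presheaf.stalk x) := Module.Finite.of_basis b₀
  let one : Γ(Coh.structureModule X, ⊤) := (1 : Γ(X, ⊤))
  let sec : J → Γ(E, ⊤) := fun j => (s j).app ⊤ one
  let g : J → E.presheaf.stalk x := fun j => E.presheaf.germ ⊤ x trivial (sec j)
  let S : Submodule (X.presheaf.stalk x) (E.presheaf.stalk x) := Submodule.span _ (Set.range g)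
  have hmem : ∀ j v, stalkLin (s j) x v ∈ S := by
    intro j v
    obtain ⟨W, hW, c, rfl⟩ := TopCat.Presheaf.exists_germ_eq (Coh.structureModule X).presheaf v
    rw [QCoh.stalkLin_germ]
    have h1 : c = (show Γ(X, W) from c) • mres (Coh.structureModule X) (le_top : W ≤ ⊤) one := by
      show c = (show Γ(X, W) from c) * (X.presheaf.map (homOfLE (le_top : W ≤ ⊤)).op).hom 1
      rw [map_one, mul_one]
    rw [h1, Ample.app_smul, Ample.app_mres, WeakAss.germ_smul]
    exact Submodule.smul_mem _ _ (Submodule.subset_span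
      ⟨j, (TopCat.Presheaf.germ_res_apply E.presheaf (homOfLE le_top) x hW _).symm⟩)
  haveI : PreservesColimitsOfSize.{u, u} (OX.stalk x) := (OX.stalkSkyAdj x).leftAdjoint_preservesColimits
  have hepi : Epi ((OX.stalk x).map (Sigma.desc s)) :=
    OX.epi_stalk_map_of_restrict U.ι (Sigma.desc s) ⟨x, hxU⟩ he
  have hq : (OX.stalk x).map (Sigma.desc s) ≫ ModuleCat.ofHom S.mkQ = 0 := by
    refine (isColimitOfPreserves (OX.stalk x) (colimit.isColimit
      (Discrete.functor fun _ : J => Coh.structureModule X))).hom_ext fun i => ?_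
    rw [comp_zero]
    show (OX.stalk x).map (Sigma.ι (fun _ : J => Coh.structureModule X) i.as) ≫
      (OX.stalk x).map (Sigma.desc s) ≫ ModuleCat.ofHom S.mkQ = 0
    rw [← Category.assoc]
    erw [← Functor.map_comp]
    rw [Sigma.ι_desc]
    exact ModuleCat.hom_ext (LinearMap.ext fun v => (Submodule.Quotient.mk_eq_zero S).2 (hmem i.as v))
  have hS : S = ⊤ := by
    refine eq_top_iff.2 fun m _ => ?_
    obtain ⟨m', rfl⟩ := (ModuleCat.epi_iff_surjective ((OX.stalk x).map (Sigma.desc s))).1 hepi m
    exact (Submodule.Quotient.mk_eq_zero S).1 (congrArg (fun g : _ ⟶ ModuleCat.of _ (_ ⧸ S) => g m') hq)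
  obtain ⟨c, hc, hcs, hli⟩ := exists_linearIndependent (X.presheaf.stalk x) (Set.range g)
  haveI : Finite c := hli.finite
  let bc : Module.Basis c (X.presheaf.stalk x) (E.presheaf.stalk x) := Module.Basis.mk hli
    (by rw [Subtype.range_coe, hcs]; exact hS.ge)
  let e : Fin r ≃ c := b₀.indexEquiv bc
  choose j hj using fun i => hc (e i).2
  let t : Fin r → Γ(E, ⊤) := fun i => sec (j i)
  let b : Module.Basis (Fin r) (X.presheaf.stalk x) (E.presheaf.stalk x) := bc.reindex e.symm
  obtain ⟨W, ew, hxW, hfr⟩ := Euler.exists_frame_of_stalk_basis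
    (Euler.isCoh_of_isFinLocFree (FinCov.isFinLocFree_of_rank hE)) b
  let β := hfr.basis W le_rfl
  let d : Γ(X, W) := β.det fun i => mres E le_top (t i)
  refine ⟨X.basicOpen d, t, ⟨x, ?_⟩, ?_⟩
  · rw [SetLike.mem_coe, Scheme.mem_basicOpen _ d x hxW]
    have hg : ∀ i, E.presheaf.germ W x hxW (mres E le_top (t i)) = b i := fun i => by
      refine (TopCat.Presheaf.germ_res_apply E.presheaf (homOfLE le_top) x hxW _).trans ?_
      show g (j i) = _
      rw [hj i]
      simp [b, bc]
    let bf : Module.Basis (Fin r) (X.presheaf.stalk x) (E.presheaf.stalk x) :=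
      Module.Basis.ofEquivFun (LinearEquiv.ofBijective
        (Fintype.linearCombination (X.presheaf.stalk x) fun i => E.presheaf.germ W x hxW (ew i))
        (Euler.bijective_germ_comb hfr hxW)).symm
    have hbf : ∀ i, bf i = E.presheaf.germ W x hxW (ew i) := fun i => by
      rw [Module.Basis.coe_ofEquivFun]
      show Fintype.linearCombination _ _ (Pi.single i 1) = _
      simp
    have hrepr : ∀ (m : Γ(E, W)) (k : Fin r), bf.repr (E.presheaf.germ W x hxW m) k =
        X.presheaf.germ W x hxW (β.repr m k) := fun m k => by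
      have hm : E.presheaf.germ W x hxW m = ∑ l, X.presheaf.germ W x hxW (β.repr m l) • bf l := by
        conv_lhs => rw [← β.sum_repr m]
        rw [Euler.germ_sum_smul]
        refine Finset.sum_congr rfl fun l _ => ?_
        rw [hbf, FinCov.IsFrame.basis_apply]
        exact congrArg _ (congrArg _ (InvExt.mres_self E (ew l)))
      rw [hm, Module.Basis.repr_sum_self]
    have hd : X.presheaf.germ W x hxW d = bf.det b := by
      show (X.presheaf.germ W x hxW).hom d = _
      rw [show d = (β.toMatrix fun i => mres E le_top (t i)).det from Module.Basis.det_apply _ _,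
        RingHom.map_det, Module.Basis.det_apply]
      refine congrArg Matrix.det (Matrix.ext fun k i => ?_)
      simp only [RingHom.mapMatrix_apply, Matrix.map_apply, Module.Basis.toMatrix_apply]
      rw [← hg i, hrepr]
    rw [hd]
    exact bf.isUnit_det b
  · intro W' hW'
    have hW'W : W' ≤ W := hW'.trans (X.basicOpen_le d)
    let β' := hfr.basis W' hW'W
    have hrepr : ∀ (m : Γ(E, W)) (k : Fin r), β'.repr (mres E hW'W m) k =
        X.presheaf.map (homOfLE hW'W).op (β.repr m k) := fun m k => by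
      have hm : mres E hW'W m = ∑ l, X.presheaf.map (homOfLE hW'W).op (β.repr m l) • β' l := by
        conv_lhs => rw [← β.sum_repr m]
        show ExtPowX.resL E hW'W _ = _
        simp only [map_sum, map_smulₛₗ]
        refine Finset.sum_congr rfl fun l _ => ?_
        rw [FinCov.IsFrame.basis_apply, FinCov.IsFrame.basis_apply]
        exact congrArg _ (InvExt.mres_mres E le_rfl hW'W (ew l))
      rw [hm, Module.Basis.repr_sum_self]
    have hu : IsUnit (β'.det fun i => mres E (le_top : W' ≤ ⊤) (t i)) := by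
      have hd' : X.presheaf.map (homOfLE hW'W).op d = β'.det fun i => mres E (le_top : W' ≤ ⊤) (t i) := by
        show (X.presheaf.map (homOfLE hW'W).op).hom d = _
        rw [show d = (β.toMatrix fun i => mres E le_top (t i)).det from Module.Basis.det_apply _ _,
          RingHom.map_det, Module.Basis.det_apply]
        refine congrArg Matrix.det (Matrix.ext fun k i => ?_)
        simp only [RingHom.mapMatrix_apply, Matrix.map_apply, Module.Basis.toMatrix_apply]
        rw [← InvExt.mres_mres E le_top hW'W (t i), hrepr]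
      rw [← hd']
      have h1 := (X.toRingedSpace.isUnit_res_basicOpen d).map (X.presheaf.map (homOfLE hW').op).hom
      have h2 : (X.presheaf.map (homOfLE hW').op).hom (X.presheaf.map (homOfLE (X.basicOpen_le d)).op d) =
          X.presheaf.map (homOfLE hW'W).op d := by
        rw [← ConcreteCategory.comp_apply, ← Functor.map_comp]; rfl
      rw [← h2]
      exact h1
    obtain ⟨hli', hsp'⟩ := β'.is_basis_iff_det.2 hu
    have hval : ∀ i, E.presheaf.map (homOfLE hW').op (mres E (le_top : X.basicOpen d ≤ ⊤) (t i)) =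
        mres E (le_top : W' ≤ ⊤) (t i) := fun i => InvExt.mres_mres E le_top hW' (t i)
    simp only [hval]
    let bT := Module.Basis.mk hli' hsp'.ge
    convert bT.equivFun.symm.bijective using 1
    funext cc
    simp [bT, Module.Basis.equivFun_symm_apply]

/-- The relation among `r + 1` sections and their maximal wedges. -/
theorem exists_mem_ker_tmL [IsIntegral X] [IsLocallyNoetherian X] (hR : IsField Γ(X, ⊤))
    {E D : X.Modules} {r : ℕ} (hE : FlatMod.IsFinLocFreeOfRank r E) (hD : ExtPow.IsExtPow r E D)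
    {V : X.Opens} {t : Fin r → Γ(E, ⊤)} (hV : (V : Set X).Nonempty)
    (ht : IsFrame E V fun i => mres E le_top (t i))
    {v : Γ(E, ⊤)} (hv : v ∉ Submodule.span Γ(X, ⊤) (Set.range t)) :
    ∃ τ : Γ(E, ⊤) ⊗[Γ(X, ⊤)] Γ(D, ⊤), τ ≠ 0 ∧ ExtPowX.Ses.tmL E D ⊤ τ = 0 := by
  classical
  have hE' := FinCov.isFinLocFree_of_rank hE
  obtain ⟨θ⟩ := ExtPowX.nonempty_iso (ExtPowX.isExtPow_wedge hE' r) hD (Iso.refl E)
  let Φ : ∀ W : X.Opens, ↥(⋀[Γ(X, W)]^r Γ(E, W)) →ₗ[Γ(X, W)] Γ(D, W) := fun W =>
    { toFun := fun z => θ.hom.app W (ExtPowX.eta E r W z)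
      map_add' := fun a b => by rw [map_add, map_add]
      map_smul' := fun c z => by
        rw [map_smul, RingHom.id_apply]
        exact Scheme.Modules.Hom.app_smul θ.hom c _ }
  have hΦ : ∀ {W : X.Opens} (u : Fin r → Γ(E, ⊤)),
      mres D (le_top : W ≤ ⊤) (Φ ⊤ (exteriorPower.ιMulti _ r u)) =
        Φ W (exteriorPower.ιMulti _ r fun i => mres E le_top (u i)) := fun {W} u => by
    show mres D (le_top : W ≤ ⊤) (θ.hom.app ⊤ (ExtPowX.eta E r ⊤ _)) = θ.hom.app W (ExtPowX.eta E r W _)
    rw [← ExtPowX.Ses.app_res, ExtPowX.mres_eta, ExtPowX.wRes_ιMulti]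
  let s : Fin (r + 1) → Γ(E, ⊤) := Fin.cons v t
  let w : Fin (r + 1) → Γ(D, ⊤) := fun i => Φ ⊤ (exteriorPower.ιMulti _ r (s ∘ i.succAbove))
  refine ⟨∑ i : Fin (r + 1), ((-1 : Γ(X, ⊤)) ^ (i : ℕ)) • (s i ⊗ₜ[Γ(X, ⊤)] w i), ?_, ?_⟩
  · intro h0
    letI : Field Γ(X, ⊤) := hR.toField
    obtain ⟨f₀, hf₀, hf₀'⟩ := Submodule.exists_dual_map_eq_bot_of_notMem hv inferInstance
    let f : Γ(E, ⊤) →ₗ[Γ(X, ⊤)] Γ(X, ⊤) := (f₀ v)⁻¹ • f₀
    have hfv : f v = 1 := by simp [f, hf₀]
    have hft : ∀ i, f (t i) = 0 := fun i => by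
      have : f₀ (t i) ∈ (Submodule.span Γ(X, ⊤) (Set.range t)).map f₀ :=
        Submodule.mem_map_of_mem (Submodule.subset_span ⟨i, rfl⟩)
      rw [hf₀', Submodule.mem_bot] at this
      simp [f, this]
    have h1 := congrArg ((TensorProduct.lid Γ(X, ⊤) Γ(D, ⊤)).toLinearMap ∘ₗ f.rTensor Γ(D, ⊤)) h0
    simp only [map_sum, map_smul, LinearMap.comp_apply, LinearMap.rTensor_tmul, LinearEquiv.coe_coe,
      TensorProduct.lid_tmul, map_zero] at h1
    rw [Fin.sum_univ_succ] at h1
    simp only [s, Fin.cons_zero, Fin.cons_succ, hfv, hft, zero_smul, smul_zero, Finset.sum_const_zero,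
      add_zero, one_smul, Fin.val_zero, pow_zero] at h1
    have h2 := congrArg (mres D (le_top : V ≤ ⊤)) h1
    simp only [w] at h2
    rw [hΦ] at h2
    haveI : Nonempty V := hV.to_subtype
    have hb : (fun i => mres E (le_top : V ≤ ⊤) ((s ∘ (0 : Fin (r + 1)).succAbove) i)) = ⇑(ht.basis V le_rfl) := by
      funext i
      rw [FinCov.IsFrame.basis_apply]
      simp only [Function.comp_apply, Fin.succAbove_zero, s, Fin.cons_succ]
      exact (InvExt.mres_self E _).symm
    rw [hb] at h2
    have h3 : ExtPowX.eta E r V (exteriorPower.ιMulti _ r (ht.basis V le_rfl)) = 0 := by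
      have h4 := congrArg (θ.inv.app V) (h2.trans (map_zero (D.presheaf.map (homOfLE (le_top : V ≤ ⊤)).op).hom))
      rw [map_zero] at h4
      refine Eq.trans ?_ h4
      exact (ConcreteCategory.congr_hom (congrArg (fun g => g.app V) θ.hom_inv_id) _).symm
    exact ιMulti_basis_ne_zero (ht.basis V le_rfl)
      ((ExtPowX.bijective_eta_of_frame ht).1 (h3.trans (map_zero _).symm))
  · choose W e hpW he using fun p : X => FinCov.exists_frame_nhd_of_rank hE p
    refine TopCat.Presheaf.section_ext (C := Ab.{u}) (X := X.carrier)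
      ⟨(CohB1.tensorMod E D).presheaf, (CohB1.tensorMod E D).isSheaf⟩ ⊤ _ _ fun p hp => ?_
    show (CohB1.tensorMod E D).presheaf.germ ⊤ p hp _ = (CohB1.tensorMod E D).presheaf.germ ⊤ p hp 0
    rw [map_zero, ← TopCat.Presheaf.germ_res_apply (CohB1.tensorMod E D).presheaf
      (homOfLE (le_top : W p ≤ ⊤)) p (hpW p)]
    show (CohB1.tensorMod E D).presheaf.germ (W p) p (hpW p)
      (mres (CohB1.tensorMod E D) le_top (ExtPowX.Ses.tmL E D ⊤ _)) = 0
    rw [ExtPowX.Ses.mres_tmL]
    have h := congrArg ((Φ (W p)).lTensor Γ(E, W p))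
      (laplace_tmul ((he p).basis (W p) le_rfl) fun i => mres E (le_top : W p ≤ ⊤) (s i))
    simp only [map_sum, map_smul, LinearMap.lTensor_tmul, map_zero] at h
    suffices hz : ExtPowX.Ses.resT E D (le_top : W p ≤ ⊤)
        (∑ i : Fin (r + 1), ((-1 : Γ(X, ⊤)) ^ (i : ℕ)) • (s i ⊗ₜ[Γ(X, ⊤)] w i)) = 0 by
      rw [hz, map_zero, map_zero]
    rw [map_sum, ← h]
    refine Finset.sum_congr rfl fun i _ => ?_
    rw [map_smulₛₗ, map_pow, map_neg, map_one]
    congr 1
    show mres E le_top (s i) ⊗ₜ[Γ(X, W p)] mres D le_top (w i) = _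
    simp only [w]
    rw [hΦ]
    rfl

end GrothLib.MulSec15
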